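/-
Kernels of irreducible characters and codegrees.

Main results: `kerSub`, `sum_normal_eq_zero`, `exists_quot`, `codeg_eq`, `codeg_dvd_card`,
`codeg_inflate`, `degree_le_and_eq`, `index_sum`, `prime_codegree_structure`.
-/
import Cfsg.Agent.Lib.TwoClassChar.Basic
import Cfsg.Agent.Lib.Char.Induced
import Cfsg.Agent.Lib.Char.Integral
import Cfsg.Agent.Lib.Char.Linear
import Cfsg.Agent.Lib.CharApp.Schur

set_option autoImplicit false
set_option linter.style.haveILetI false

namespace Cfsg.Agent.Codegree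
open Cfsg
open scoped ComplexConjugate commutatorElement
open Cfsg.Agent.TwoClassChar (deg_eq deg_pos char_conj char_inv ker_mul row_orth)

variable {G : Type*} [Group G] [Finite G]

/-- The kernel of an irreducible character. -/
def kerSub (χ : IrrCharacter G) : Subgroup G where
  carrier := {g | (χ : G → ℂ) g = (χ : G → ℂ) 1}
  one_mem' := rfl
  mul_mem' := fun {a b} ha hb => (ker_mul χ.2 ha b).trans hb
  inv_mem' := fun {a} ha => by
    show (χ : G → ℂ) a⁻¹ = _
    rw [char_inv χ.2, show (χ : G → ℂ) a = (χ : G → ℂ) 1 from ha, deg_eq χ.2, Complex.conj_natCast]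

theorem mem_kerSub {χ : IrrCharacter G} {g : G} :
    g ∈ kerSub χ ↔ (χ : G → ℂ) g = (χ : G → ℂ) 1 := Iff.rfl

instance kerSub_normal (χ : IrrCharacter G) : (kerSub χ).Normal :=
  ⟨fun g hg x => by rw [mem_kerSub, char_conj χ.2]; exact hg⟩

theorem sum_normal_eq_zero (χ : IrrCharacter G) (M : Subgroup G) [M.Normal] [Fintype M]
    (hM : ¬ M ≤ kerSub χ) : ∑ m : M, (χ : G → ℂ) m = 0 := by
  classical
  haveI := Fintype.ofFinite G
  obtain ⟨n, ρ, hρ, hχ⟩ := χ.2
  let f : G → ℂ := fun g => if g ∈ M then 1 else 0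
  have hf : IsClassFunction G f := fun g h => by
    have hn : M.Normal := inferInstance
    refine if_congr ⟨fun e => ?_, fun e => hn.conj_mem _ e h⟩ rfl rfl
    simpa [mul_assoc] using hn.conj_mem _ e h⁻¹
  have hop := Char.groupSumOp_eq_smul ρ hf
  set c := (∑ g, f g * ρ.character g) / (Module.finrank ℂ (Fin n → ℂ) : ℂ) with hc
  obtain ⟨m, hm, hmk⟩ := SetLike.not_le_iff_exists.1 hM
  have hmul : ρ m * Char.groupSumOp ρ f = Char.groupSumOp ρ f := by
    simp only [Char.groupSumOp, Finset.mul_sum, mul_smul_comm, ← map_mul]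
    refine Fintype.sum_equiv (Equiv.mulLeft m) _ _ fun g => ?_
    simp [f, Subgroup.mul_mem_cancel_left _ hm]
  rw [hop, ← Module.End.one_eq_id, mul_smul_comm, mul_one] at hmul
  have hc0 : c = 0 := by
    by_contra hc0
    refine hmk ?_
    have : ρ m = 1 := smul_right_injective _ hc0 hmul
    rw [mem_kerSub, ← hχ]
    simp [Representation.character, this]
  have hsum : ∑ m : M, (χ : G → ℂ) m = ∑ g, f g * ρ.character g := by
    simp only [f, ite_mul, one_mul, zero_mul, ← hχ]
    rw [← Finset.sum_filter]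
    refine (Finset.sum_subtype _ (fun x => ?_) _).symm
    simp
  rw [hsum]
  haveI := Char.nontrivial_of_isIrreducible ρ
  exact (div_eq_zero_iff.1 hc0).resolve_right (Nat.cast_ne_zero.2 Module.finrank_pos.ne')

theorem exists_quot (χ : IrrCharacter G) (N : Subgroup G) [N.Normal] (hN : N ≤ kerSub χ) :
    ∃ ψ : IrrCharacter (G ⧸ N), ∀ g : G, (ψ : G ⧸ N → ℂ) g = (χ : G → ℂ) g := by
  obtain ⟨n, ρ, hρ, hχ⟩ := χ.2
  have hk : N ≤ MonoidHom.ker ρ := fun g hg => by
    have := hN hg
    rw [mem_kerSub, ← hχ] at this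
    exact (Char.character_eq_finrank_iff ρ g).1 (this.trans (Representation.char_one ρ))
  let σ : Representation ℂ (G ⧸ N) (Fin n → ℂ) := QuotientGroup.lift N ρ hk
  haveI : σ.IsIrreducible := by
    haveI := CharApp.nontrivial_of_irr ρ
    refine CharApp.isIrreducible_of_forall_invariant _ fun W hW => ?_
    exact CharApp.eq_bot_or_top_of_invariant ρ W fun g v hv => hW (g : G ⧸ N) v hv
  exact ⟨⟨σ.character, Char.isIrrCharacter_character σ⟩, fun g => by rw [← hχ]; rfl⟩

theorem deg_dvd_card (χ : IrrCharacter G) : charDegree (χ : G → ℂ) ∣ Nat.card G := by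
  obtain ⟨n, _, hn, hd⟩ := Char.IsIrrCharacter.degree_dvd_card χ.2
  have : (charDegree (χ : G → ℂ) : ℂ) = n := by rw [← deg_eq χ.2, hn]
  rwa [Nat.cast_injective this]

theorem deg_dvd_index (χ : IrrCharacter G) : charDegree (χ : G → ℂ) ∣ (kerSub χ).index := by
  obtain ⟨ψ, hψ⟩ := exists_quot χ (kerSub χ) le_rfl
  have := deg_dvd_card ψ
  rwa [show charDegree (ψ : G ⧸ kerSub χ → ℂ) = charDegree (χ : G → ℂ) by
    simp [charDegree, ← hψ]] at this

theorem card_ker (χ : IrrCharacter G) :
    Nat.card {g : G // (χ : G → ℂ) g = (χ : G → ℂ) 1} = Nat.card (kerSub χ) := rfl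

theorem codeg_eq (χ : IrrCharacter G) :
    Nat.card G / (Nat.card {g : G // (χ : G → ℂ) g = (χ : G → ℂ) 1} * charDegree (χ : G → ℂ)) =
      (kerSub χ).index / charDegree (χ : G → ℂ) := by
  rw [card_ker, ← Subgroup.card_mul_index (kerSub χ), Nat.mul_div_mul_left _ _ Nat.card_pos]

theorem codeg_mul_deg (χ : IrrCharacter G) :
    Nat.card G / (Nat.card {g : G // (χ : G → ℂ) g = (χ : G → ℂ) 1} * charDegree (χ : G → ℂ)) *
      charDegree (χ : G → ℂ) = (kerSub χ).index := by
  rw [codeg_eq, Nat.div_mul_cancel (deg_dvd_index χ)]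

theorem codeg_dvd_card (χ : IrrCharacter G) :
    Nat.card G / (Nat.card {g : G // (χ : G → ℂ) g = (χ : G → ℂ) 1} * charDegree (χ : G → ℂ)) ∣
      Nat.card G :=
  ⟨charDegree (χ : G → ℂ) * Nat.card (kerSub χ), by
    rw [← mul_assoc, codeg_mul_deg, mul_comm, Subgroup.card_mul_index]⟩

/-- Inflation of an irreducible character. -/
noncomputable def inflate (N : Subgroup G) [N.Normal] (ψ : IrrCharacter (G ⧸ N)) : IrrCharacter G :=
  ⟨fun g => (ψ : G ⧸ N → ℂ) g,
    Char.IsIrrCharacter.comp_surjective ψ.2 (QuotientGroup.mk' N) (QuotientGroup.mk'_surjective N)⟩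

theorem inflate_apply (N : Subgroup G) [N.Normal] (ψ : IrrCharacter (G ⧸ N)) (g : G) :
    (inflate N ψ : G → ℂ) g = (ψ : G ⧸ N → ℂ) g := rfl

theorem index_kerSub_inflate (N : Subgroup G) [N.Normal] (ψ : IrrCharacter (G ⧸ N)) :
    (kerSub (inflate N ψ)).index = (kerSub ψ).index := by
  rw [← Subgroup.index_comap_of_surjective _ (QuotientGroup.mk'_surjective N)]
  rfl

theorem codeg_inflate (N : Subgroup G) [N.Normal] (ψ : IrrCharacter (G ⧸ N)) :
    Nat.card G / (Nat.card {g : G // (inflate N ψ : G → ℂ) g = (inflate N ψ : G → ℂ) 1} *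
      charDegree (inflate N ψ : G → ℂ)) =
    Nat.card (G ⧸ N) / (Nat.card {g : G ⧸ N // (ψ : G ⧸ N → ℂ) g = (ψ : G ⧸ N → ℂ) 1} *
      charDegree (ψ : G ⧸ N → ℂ)) := by
  rw [codeg_eq, codeg_eq, index_kerSub_inflate]
  rfl

/-- `∑ χ 1 * [χ restricted to M, 1]` is the index of `M`. -/
theorem index_sum [Fintype (IrrCharacter G)] (M : Subgroup G) [M.Normal]
    [DecidablePred fun χ : IrrCharacter G => M ≤ kerSub χ] :
    ∑ χ ∈ Finset.univ.filter (fun χ : IrrCharacter G => M ≤ kerSub χ), (χ : G → ℂ) 1 ^ 2 =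
      (M.index : ℂ) := by
  classical
  haveI := Fintype.ofFinite G
  haveI := Fintype.ofFinite M
  have hM : (Nat.card M : ℂ) ≠ 0 := by simp
  refine mul_left_cancel₀ hM ?_
  rw [← Nat.cast_mul, Subgroup.card_mul_index, Finset.mul_sum]
  calc ∑ χ ∈ Finset.univ.filter (fun χ : IrrCharacter G => M ≤ kerSub χ),
        (Nat.card M : ℂ) * (χ : G → ℂ) 1 ^ 2
      = ∑ χ : IrrCharacter G, ∑ m : M, (χ : G → ℂ) 1 * (χ : G → ℂ) m := by
        rw [Finset.sum_filter]
        refine Finset.sum_congr rfl fun χ _ => ?_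
        split_ifs with h
        · rw [Finset.sum_congr rfl (fun (m : M) _ =>
            congrArg ((χ : G → ℂ) 1 * ·) (mem_kerSub.1 (h m.2))), Finset.sum_const,
            Finset.card_univ, nsmul_eq_mul, Nat.card_eq_fintype_card, sq]
        · rw [← Finset.mul_sum, sum_normal_eq_zero χ M h, mul_zero]
    _ = (Nat.card G : ℂ) := by
        rw [Finset.sum_comm]
        simp only [Char.sum_degree_mul_apply, OneMemClass.coe_eq_one]
        simp

/-- An irreducible constituent has degree at most that of the character, with equality only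
for equality. -/
theorem degree_le_and_eq [Fintype G] {ψ : G → ℂ} (hψ : IsCharacter G ψ) (χ : IrrCharacter G)
    (hne : classInner ψ (χ : G → ℂ) ≠ 0) {n : ℕ} (hn : ψ 1 = n) :
    charDegree (χ : G → ℂ) ≤ n ∧ (n ≤ charDegree (χ : G → ℂ) → ψ = χ) := by
  classical
  haveI := Fintype.ofFinite (IrrCharacter G)
  obtain ⟨m, hm, hmφ⟩ := Char.IsCharacter.decompose hψ
  have hmχ : 0 < m χ := Nat.pos_of_ne_zero fun h0 => hne (by rw [hmφ, h0, Nat.cast_zero])
  have hdeg : n = ∑ φ : IrrCharacter G, m φ * charDegree (φ : G → ℂ) := by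
    have := congrFun hm 1
    rw [hn] at this
    simp only [Finset.sum_apply, Pi.smul_apply, smul_eq_mul, deg_eq (Subtype.prop _)] at this
    exact_mod_cast this
  rw [← Finset.add_sum_erase _ _ (Finset.mem_univ χ)] at hdeg
  have h1 : charDegree (χ : G → ℂ) ≤ m χ * charDegree (χ : G → ℂ) := Nat.le_mul_of_pos_left _ hmχ
  refine ⟨le_trans h1 (by omega), fun hle => ?_⟩
  have hz : ∑ φ ∈ Finset.univ.erase χ, m φ * charDegree (φ : G → ℂ) = 0 := by omega
  have hone : m χ = 1 := by
    have : m χ * charDegree (χ : G → ℂ) = 1 * charDegree (χ : G → ℂ) := by omega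
    exact Nat.eq_of_mul_eq_mul_right (deg_pos χ.2) this
  rw [hm, Finset.sum_eq_single χ]
  · simp [hone]
  · intro φ _ hφ
    have := Finset.sum_eq_zero_iff.1 hz φ (Finset.mem_erase.2 ⟨hφ, Finset.mem_univ _⟩)
    rw [mul_eq_zero] at this
    simp [this.resolve_right (deg_pos φ.2).ne']
  · simp

theorem ne_principal_of_faithful (χ : IrrCharacter G) (hG : Nontrivial G)
    (hf : ∀ g : G, (χ : G → ℂ) g = (χ : G → ℂ) 1 → g = 1) : (χ : G → ℂ) ≠ fun _ => 1 := by
  intro e
  obtain ⟨g, hg⟩ := exists_ne (1 : G)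
  exact hg (hf g (by rw [e]))

theorem sq_degree_lt (χ : IrrCharacter G) (hχ : (χ : G → ℂ) ≠ fun _ => 1) :
    charDegree (χ : G → ℂ) ^ 2 < Nat.card G := by
  classical
  haveI := Fintype.ofFinite (IrrCharacter G)
  have h := Char.sum_sq_degrees (G := G)
  simp only [deg_eq (Subtype.prop _)] at h
  have h' : ∑ φ : IrrCharacter G, charDegree (φ : G → ℂ) ^ 2 = Nat.card G := by exact_mod_cast h
  rw [← h', ← Finset.add_sum_erase _ _ (Finset.mem_univ χ)]
  refine Nat.lt_add_of_pos_right (Finset.sum_pos' (fun _ _ => Nat.zero_le _)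
    ⟨⟨fun _ => 1, Char.isIrrCharacter_one⟩, ?_, ?_⟩)
  · exact Finset.mem_erase.2 ⟨fun e => hχ (congrArg Subtype.val e).symm, Finset.mem_univ _⟩
  · exact pow_pos (deg_pos (Char.isIrrCharacter_one)) 2

/-- A group with a faithful irreducible character of prime codegree. -/
theorem prime_codegree_structure (χ : IrrCharacter G)
    (hf : ∀ g : G, (χ : G → ℂ) g = (χ : G → ℂ) 1 → g = 1) (p : ℕ) (hp : p.Prime)
    (hcod : Nat.card G = p * charDegree (χ : G → ℂ)) :
    ∃ P : Subgroup G, P.Normal ∧ Nat.card P = p ∧ P.index = charDegree (χ : G → ℂ) ∧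
      Subgroup.centralizer (P : Set G) = P ∧ commutator G ≤ P ∧
      Nat.Coprime p (charDegree (χ : G → ℂ)) := by
  classical
  haveI := Fintype.ofFinite G
  haveI := Fact.mk hp
  set d := charDegree (χ : G → ℂ) with hd
  have hd0 : 0 < d := deg_pos χ.2
  have hnt : Nontrivial G := by
    rw [← Finite.one_lt_card_iff_nontrivial, hcod]
    exact lt_of_lt_of_le hp.one_lt (Nat.le_mul_of_pos_right p hd0)
  have hdp : d < p := by
    have := sq_degree_lt χ (ne_principal_of_faithful χ hnt hf)
    rw [hcod, ← hd, sq] at this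
    exact Nat.lt_of_mul_lt_mul_right this
  have hcop : Nat.Coprime p d := hp.coprime_iff_not_dvd.2 (Nat.not_dvd_of_pos_of_lt hd0 hdp)
  obtain ⟨S⟩ : Nonempty (Sylow p G) := inferInstance
  have hSc : Nat.card (S : Subgroup G) = p := by
    rw [Sylow.card_eq_multiplicity, hcod, Nat.factorization_mul hp.ne_zero hd0.ne']
    simp [hp.factorization_self, Nat.factorization_eq_zero_of_not_dvd
      (Nat.not_dvd_of_pos_of_lt hd0 hdp)]
  have hSi : (S : Subgroup G).index = d := by
    have := Subgroup.card_mul_index (S : Subgroup G)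
    rw [hSc, hcod] at this
    exact Nat.eq_of_mul_eq_mul_left hp.pos this
  have hn1 : Nat.card (Sylow p G) = 1 := by
    have h1 : Nat.card (Sylow p G) ∣ d := hSi ▸ S.card_dvd_index
    have h2 := card_sylow_modEq_one p G
    have h3 := Nat.le_of_dvd hd0 h1
    rwa [Nat.ModEq, Nat.mod_eq_of_lt (by omega), Nat.mod_eq_of_lt hp.one_lt] at h2
  haveI : Subsingleton (Sylow p G) := (Nat.card_eq_one_iff_unique.1 hn1).1
  have hPn : (S : Subgroup G).Normal := Sylow.normal_of_subsingleton S
  set P : Subgroup G := (S : Subgroup G)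
  haveI : IsCyclic P := isCyclic_of_prime_card hSc
  letI : CommGroup P := IsCyclic.commGroup
  haveI := Fintype.ofFinite P
  haveI := Fintype.ofFinite (IrrCharacter P)
  -- χ vanishes outside P
  have hvan : ∀ g : G, g ∉ P → (χ : G → ℂ) g = 0 := by
    have hres := Char.IsCharacter.restrict (Char.IsIrrCharacter.isCharacter χ.2) P
    obtain ⟨m, hm, hmφ⟩ := Char.IsCharacter.decompose hres
    have hlin : ∀ φ : IrrCharacter P, (φ : P → ℂ) 1 = 1 :=
      Char.apply_one_eq_one_of_comm (fun a b => mul_comm a b)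
    have hsum : (d : ℂ) = ∑ φ : IrrCharacter P, (m φ : ℂ) := by
      have := congrFun hm 1
      simp only [Finset.sum_apply, Pi.smul_apply, smul_eq_mul, hlin, mul_one, OneMemClass.coe_one,
        deg_eq χ.2] at this
      exact this
    have hinner : classInner (fun h : P => (χ : G → ℂ) h) (fun h : P => (χ : G → ℂ) h) =
        ∑ φ : IrrCharacter P, (m φ : ℂ) ^ 2 := by
      rw [Char.classInner_eq_sum (Char.IsCharacter.isClassFunction hres)]
      simp only [hmφ, Complex.conj_natCast, sq]
    have hP : ∑ h : P, Complex.normSq ((χ : G → ℂ) h) = (p : ℝ) * ∑ φ : IrrCharacter P, (m φ : ℝ) ^ 2 := by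
      apply Complex.ofReal_injective
      push_cast
      simp only [← Complex.mul_conj]
      rw [← Char.card_mul_classInner, hinner, hSc]
    have hG : ∑ g : G, Complex.normSq ((χ : G → ℂ) g) = (p : ℝ) * d := by
      apply Complex.ofReal_injective
      push_cast
      simp only [← Complex.mul_conj]
      rw [row_orth, if_pos rfl, hcod]
      push_cast; rfl
    have hsplit : ∑ g : G, Complex.normSq ((χ : G → ℂ) g) =
        ∑ h : P, Complex.normSq ((χ : G → ℂ) h) +
        ∑ g ∈ Finset.univ.filter (· ∉ P), Complex.normSq ((χ : G → ℂ) g) := by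
      rw [← Finset.sum_filter_add_sum_filter_not Finset.univ (· ∈ P)]
      congr 1
      exact Finset.sum_subtype _ (fun x => by simp) _
    have hge : (d : ℝ) ≤ ∑ φ : IrrCharacter P, (m φ : ℝ) ^ 2 := by
      have e : (d : ℝ) = ∑ φ : IrrCharacter P, (m φ : ℝ) := by
        apply Complex.ofReal_injective; push_cast; exact hsum
      rw [e]
      refine Finset.sum_le_sum fun φ _ => ?_
      exact_mod_cast Nat.le_self_pow two_ne_zero (m φ)
    have hz : ∑ g ∈ Finset.univ.filter (· ∉ P), Complex.normSq ((χ : G → ℂ) g) = 0 := by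
      refine le_antisymm ?_ (Finset.sum_nonneg fun g _ => Complex.normSq_nonneg _)
      nlinarith [hp.pos, mul_le_mul_of_nonneg_left hge (Nat.cast_nonneg (α := ℝ) p)]
    intro g hg
    exact Complex.normSq_eq_zero.1 ((Finset.sum_eq_zero_iff_of_nonneg
      fun g _ => Complex.normSq_nonneg _).1 hz g (by simp [hg]))
  -- P is self-centralizing
  have hPC : P ≤ Subgroup.centralizer (P : Set G) := fun x hx y hy =>
    congrArg Subtype.val (mul_comm (⟨y, hy⟩ : P) ⟨x, hx⟩)
  have hC : Subgroup.centralizer (P : Set G) = P := by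
    refine le_antisymm ?_ hPC
    set C := Subgroup.centralizer (P : Set G)
    haveI : C.Normal := by
      show (Subgroup.centralizer (P : Set G)).Normal
      infer_instance
    let K : Subgroup G :=
      { carrier := {c | c ∈ C ∧ c ^ d = 1}
        one_mem' := ⟨one_mem _, one_pow _⟩
        mul_mem' := by
          rintro a b ⟨ha, ha'⟩ ⟨hb, hb'⟩
          refine ⟨mul_mem ha hb, ?_⟩
          -- split off the central part
          obtain ⟨Q, hQ⟩ := Subgroup.exists_right_complement'_of_coprime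
            (N := P.subgroupOf C) (by
              rw [Nat.card_congr (Subgroup.subgroupOfEquivOfLe hPC).toEquiv, hSc]
              exact hcop.coprime_dvd_right (hSi ▸ Subgroup.relIndex_dvd_index_of_normal P C))
          have key : ∀ c : C, (c : G) ^ d = 1 → c ∈ Q := by
            intro c hc
            obtain ⟨⟨⟨x, hx⟩, ⟨q, hq⟩⟩, hxq, -⟩ := hQ.existsUnique c
            simp only at hxq
            have hcomm : Commute x q := Subtype.ext
              ((Subgroup.mem_centralizer_iff.1 q.2 x (Subgroup.mem_subgroupOf.1 hx)))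
            have hqd : q ^ d = 1 := by
              refine orderOf_dvd_iff_pow_eq_one.1 ((Subgroup.orderOf_dvd_natCard _ hq).trans ?_)
              rw [← hQ.symm.index_eq_card]
              exact hSi ▸ Subgroup.relIndex_dvd_index_of_normal P C
            have hxd : x ^ d = 1 := by
              have : c ^ d = 1 := Subtype.ext (by simpa using hc)
              rwa [← hxq, hcomm.mul_pow, hqd, mul_one] at this
            have hxp : orderOf x ∣ p := by
              have := Subgroup.orderOf_dvd_natCard _ hx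
              rwa [Nat.card_congr (Subgroup.subgroupOfEquivOfLe hPC).toEquiv, hSc] at this
            have := Nat.eq_one_of_dvd_coprimes hcop hxp (orderOf_dvd_of_pow_eq_one hxd)
            rw [orderOf_eq_one_iff.1 this, one_mul] at hxq
            exact hxq ▸ hq
          have h1 := mul_mem (key ⟨a, ha⟩ ha') (key ⟨b, hb⟩ hb')
          have h2 := Subgroup.orderOf_dvd_natCard _ h1
          rw [← hQ.symm.index_eq_card] at h2
          have h3 := orderOf_dvd_iff_pow_eq_one.1
            (h2.trans (hSi ▸ Subgroup.relIndex_dvd_index_of_normal P C))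
          simpa using congrArg Subtype.val h3
        inv_mem' := fun {a} ha => ⟨inv_mem ha.1, by rw [inv_pow, ha.2, inv_one]⟩ }
    haveI hKn : K.Normal := ⟨fun c hc g =>
      ⟨(inferInstance : C.Normal).conj_mem _ hc.1 g, by rw [conj_pow, hc.2, mul_one, mul_inv_cancel]⟩⟩
    have hK1 : K ≤ kerSub χ := by
      by_contra hK
      haveI := Fintype.ofFinite K
      have := sum_normal_eq_zero χ K hK
      rw [Finset.sum_eq_single (1 : K)] at this
      · exact Char.IsIrrCharacter.apply_one_ne_zero χ.2 this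
      · intro k _ hk
        refine hvan _ fun hkP => hk (Subtype.ext ?_)
        have h1 : orderOf (k : G) ∣ p := hSc ▸ Subgroup.orderOf_dvd_natCard _ hkP
        exact orderOf_eq_one_iff.1 (Nat.eq_one_of_dvd_coprimes hcop h1
          (orderOf_dvd_of_pow_eq_one k.2.2))
      · simp
    intro c hc
    have hcp : c ^ p ∈ K := ⟨pow_mem hc p, by rw [← pow_mul, ← hcod, pow_card_eq_one']⟩
    have : c ^ p = 1 := hf _ (hK1 hcp)
    have hz : IsPGroup p (Subgroup.zpowers c) := IsPGroup.of_card (n := (orderOf c).factorization p) (by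
      rw [Nat.card_zpowers]
      rcases (Nat.dvd_prime hp).1 (orderOf_dvd_of_pow_eq_one this) with e | e
      · simp [e]
      · simp [e, hp.factorization_self])
    obtain ⟨T, hT⟩ := hz.exists_le_sylow
    rw [Subsingleton.elim T S] at hT
    exact hT (Subgroup.mem_zpowers c)
  refine ⟨P, hPn, hSc, hSi, hC, ?_, hcop⟩
  rw [commutator_def, Subgroup.commutator_le]
  intro a _ b _
  rw [← hC, Subgroup.mem_centralizer_iff]
  intro x hx
  have hab : ∀ u v : MulAut P, u * v = v * u := by
    intro u v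
    apply (IsCyclic.mulAutMulEquiv P).injective
    simp only [map_mul]; exact mul_comm _ _
  have h1 : MulAut.conjNormal ⁅a, b⁆ = (1 : MulAut P) := by
    rw [map_commutatorElement, commutatorElement_def, hab (MulAut.conjNormal a),
      mul_inv_cancel_right, mul_inv_cancel]
  have := congrArg (fun φ : MulAut P => (φ ⟨x, hx⟩ : G)) h1
  simp only [MulAut.conjNormal_apply, MulAut.one_apply] at this
  exact (mul_inv_eq_iff_eq_mul.1 this).symm

end Cfsg.Agent.Codegree
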